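import Groth.Agent.GrLib8.ConormalDepth.Height
import Groth.Agent.KFlatLib.Ring.BaseChangeDepth
import Groth.Agent.Synt29.SmoothProps
import Groth.Agent.LC.DepthLoc

/-!
# Depth of the graded pieces of an associated graded ring with Serre's condition
-/

set_option autoImplicit false
set_option linter.unusedSectionVars false
set_option linter.style.haveILetI false
set_option quotPrecheck false
set_option synthInstance.maxHeartbeats 200000
set_option maxHeartbeats 800000
set_option backward.isDefEq.respectTransparency false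
set_option backward.isDefEq.respectTransparency.types false

universe u

open Polynomial CategoryTheory

namespace Groth.Agent.GrLib8.ConormalDepth

/-- Local cohomology of a retract. -/
theorem subsingleton_H_retract {A : Type u} [CommRing A] (J : Ideal A) {L S : Type u} [AddCommGroup L] [Module A L]
    [AddCommGroup S] [Module A S] (j : L →ₗ[A] S) (π : S →ₗ[A] L) (h : ∀ x, π (j x) = x) (i : ℕ)
    [Subsingleton ((localCohomology J i).obj (ModuleCat.of A S))] :
    Subsingleton ((localCohomology J i).obj (ModuleCat.of A L)) := by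
  let F := localCohomology J i
  have e : F.map (ModuleCat.ofHom j) ≫ F.map (ModuleCat.ofHom π) = 𝟙 _ := by
    rw [← F.map_comp, show ModuleCat.ofHom j ≫ ModuleCat.ofHom π = 𝟙 _ from ModuleCat.hom_ext (LinearMap.ext h),
      F.map_id]
  refine ⟨fun x y => ?_⟩
  have hx := congr($(e).hom x)
  have hy := congr($(e).hom y)
  simp only [ModuleCat.hom_comp, LinearMap.comp_apply, ModuleCat.hom_id, LinearMap.id_coe, id_eq] at hx hy
  rw [← hx, ← hy, Subsingleton.elim ((F.map (ModuleCat.ofHom j)).hom x)]

/-- Depth of a retract of the localization of a ring with Serre's condition along a prime of the base. -/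
theorem le_depth_retract {R G : Type u} [CommRing R] [IsNoetherianRing R] [CommRing G] [IsNoetherianRing G]
    [Algebra R G] (r : ℕ) (hS : LocCoh.HasSk r G G) (p : Ideal R) [p.IsPrime] (d : ℕ) (hdr : d ≤ r)
    (hht : ∀ (q : Ideal G) [q.IsPrime], q.under R = p → (d : ℕ∞) ≤ q.height)
    (M : Type u) [AddCommGroup M] [Module R M] [Module.Finite R M]
    (j : M →ₗ[R] G) (π : G →ₗ[R] M) (hjπ : ∀ x, π (j x) = x) :
    (d : ℕ∞) ≤ LocCoh.depth (Localization.AtPrime p) (LocalizedModule p.primeCompl M) := by
  let A := Localization.AtPrime p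
  let Sm := Algebra.algebraMapSubmonoid G p.primeCompl
  let S := Localization Sm
  have hle : p.primeCompl ≤ Sm.comap (algebraMap R G) := fun y hy => ⟨y, hy, rfl⟩
  letI : Algebra A S := (IsLocalization.map (S := A) S (algebraMap R G) hle).toAlgebra
  haveI : IsScalarTower R A S := IsScalarTower.of_algebraMap_eq fun x => by
    show algebraMap R S x = IsLocalization.map (S := A) S (algebraMap R G) _ (algebraMap R A x)
    rw [IsLocalization.map_eq]
    exact IsScalarTower.algebraMap_apply R G S x
  haveI : IsNoetherianRing A := IsLocalization.isNoetherianRing p.primeCompl A inferInstance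
  haveI : IsNoetherianRing S := IsLocalization.isNoetherianRing Sm S inferInstance
  -- Serre's condition for the localization
  have hSk : LocCoh.HasSk r S S := (Synt29.SmoothProps.hasSk_self_localization_iff Sm r).2
    fun q _ _ => (FlatLoc6.hasSk_self_iff r).1 hS q
  have hkey : (d : ℕ∞) ≤ LocCoh.idealDepth ((IsLocalRing.maximalIdeal A).map (algebraMap A S)) S := by
    rw [LC.idealDepth_eq_iInf_depth]
    refine le_iInf₂ fun Q hQ => ?_
    rw [FlatLoc6.depth_self_atPrime]
    refine le_trans ?_ ((FlatLoc6.hasSk_self_iff r).1 hSk Q.asIdeal)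
    refine le_min (by exact_mod_cast hdr) ?_
    rw [← IsLocalization.height_under Sm Q.asIdeal]
    refine hht _ ?_
    have h1 : Q.asIdeal.under A = IsLocalRing.maximalIdeal A :=
      ((IsLocalRing.maximalIdeal.isMaximal A).eq_of_le (Ideal.IsPrime.ne_top inferInstance)
        (Ideal.map_le_iff_le_comap.1 hQ)).symm
    ext x
    rw [Ideal.under_def, Ideal.under_def, Ideal.mem_comap, Ideal.mem_comap,
      ← IsScalarTower.algebraMap_apply R G S x, IsScalarTower.algebraMap_apply R A S x, ← Ideal.mem_comap,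
      ← Ideal.under_def, h1, IsLocalization.AtPrime.to_map_mem_maximal_iff A p]
  have hH := (KFlatLib.le_idealDepth_iff_H_restrict (IsLocalRing.maximalIdeal A) S d).1 hkey
  haveI : Module.Finite A (LocalizedModule p.primeCompl M) :=
    Module.Finite.of_isLocalizedModule p.primeCompl (LocalizedModule.mkLinearMap _ M)
  refine (LC.le_idealDepth_iff_H (IsLocalRing.maximalIdeal A) (LocalizedModule p.primeCompl M) d).2 fun i hi => ?_
  haveI := hH i hi
  let g : G →ₗ[R] S := (IsScalarTower.toAlgHom R G S).toLinearMap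
  haveI : IsLocalizedModule p.primeCompl g := by
    haveI : IsLocalization (Algebra.algebraMapSubmonoid G p.primeCompl) S := inferInstanceAs (IsLocalization Sm S)
    exact isLocalizedModule_iff_isLocalization.2 inferInstance
  let f := LocalizedModule.mkLinearMap p.primeCompl M
  let jl : LocalizedModule p.primeCompl M →ₗ[A] S :=
    (IsLocalizedModule.map p.primeCompl f g j).extendScalarsOfIsLocalization p.primeCompl A
  let πl : S →ₗ[A] LocalizedModule p.primeCompl M :=
    (IsLocalizedModule.map p.primeCompl g f π).extendScalarsOfIsLocalization p.primeCompl A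
  refine subsingleton_H_retract _ jl πl (fun x => ?_) i
  have h := DFunLike.congr_fun (IsLocalizedModule.map_comp' p.primeCompl f g f j π) x
  show IsLocalizedModule.map p.primeCompl g f π (IsLocalizedModule.map p.primeCompl f g j x) = x
  refine h.symm.trans ?_
  rw [show π ∘ₗ j = LinearMap.id from LinearMap.ext hjπ, IsLocalizedModule.map_id]
  rfl

variable {R : Type u} [CommRing R] (I : Ideal R) (n : ℕ)

local notation "𝐆" => (reesAlgebra I) ⧸ I.map (algebraMap R (reesAlgebra I))
local notation "𝐌" => ↥(I ^ n) ⧸ (I • (⊤ : Submodule R ↥(I ^ n)))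

theorem coeff_mem_of_mem_map {f : reesAlgebra I} (hf : f ∈ I.map (algebraMap R (reesAlgebra I))) (i : ℕ) :
    (f : R[X]).coeff i ∈ I ^ (i + 1) := by
  change f ∈ Ideal.span _ at hf
  induction hf using Submodule.span_induction generalizing i with
  | mem x hx =>
    obtain ⟨c, hc, rfl⟩ := hx
    show (Polynomial.C c).coeff i ∈ _
    rcases i with _ | i
    · rw [Polynomial.coeff_C_zero, zero_add, pow_one]; exact hc
    · rw [Polynomial.coeff_C_succ]; exact zero_mem _
  | zero => simp
  | add x y _ _ hx hy =>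
      show ((x : R[X]) + (y : R[X])).coeff i ∈ _
      rw [Polynomial.coeff_add]; exact add_mem (hx i) (hy i)
  | smul c x _ hx =>
      show ((c : R[X]) * (x : R[X])).coeff i ∈ _
      rw [Polynomial.coeff_mul]
      refine Ideal.sum_mem _ fun jk hjk => ?_
      rw [Finset.HasAntidiagonal.mem_antidiagonal] at hjk
      have h := Ideal.mul_mem_mul (c.2 jk.1) (hx jk.2)
      rwa [← pow_add, show jk.1 + (jk.2 + 1) = i + 1 by omega] at h

theorem mem_smul_top {x : ↥(I ^ n)} (h : (x : R) ∈ I ^ (n + 1)) : x ∈ I • (⊤ : Submodule R ↥(I ^ n)) := by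
  rw [← Submodule.comap_map_eq_of_injective (I ^ n).injective_subtype (I • ⊤), Submodule.mem_comap,
    Submodule.map_smul'', Submodule.map_top, Submodule.range_subtype]
  show (x : R) ∈ I * I ^ n
  rwa [← pow_succ']

/-- The projection onto a graded piece. -/
noncomputable def proj : 𝐆 →ₗ[R] 𝐌 :=
  Submodule.liftQ ((I.map (algebraMap R (reesAlgebra I))).restrictScalars R)
    ((I • (⊤ : Submodule R ↥(I ^ n))).mkQ.comp
      (((Polynomial.lcoeff R n).comp (reesAlgebra I).val.toLinearMap).codRestrict (I ^ n) fun f => f.2 n))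
    (fun f hf => (Submodule.Quotient.mk_eq_zero _).2 (mem_smul_top I n (coeff_mem_of_mem_map I hf n))) ∘ₗ
  ((Submodule.Quotient.restrictScalarsEquiv R (I.map (algebraMap R (reesAlgebra I)))).symm).toLinearMap

/-- The inclusion of a graded piece. -/
noncomputable def incl : 𝐌 →ₗ[R] 𝐆 :=
  Submodule.liftQ _ (((Ideal.Quotient.mkₐ R (I.map (algebraMap R (reesAlgebra I)))).toLinearMap).comp
    (((Polynomial.monomial n).comp (I ^ n).subtype).codRestrict (Subalgebra.toSubmodule (reesAlgebra I))
      fun x => reesAlgebra.monomial_mem.2 x.2)) (Submodule.smul_le.2 fun a ha x _ => by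
    rw [LinearMap.mem_ker, map_smul]
    obtain ⟨z, hz⟩ : ∃ z, ((Ideal.Quotient.mkₐ R (I.map (algebraMap R (reesAlgebra I)))).toLinearMap).comp
      (((Polynomial.monomial n).comp (I ^ n).subtype).codRestrict (Subalgebra.toSubmodule (reesAlgebra I))
        fun x => reesAlgebra.monomial_mem.2 x.2) x = z := ⟨_, rfl⟩
    rw [hz, show a • z = algebraMap R 𝐆 a * z from Algebra.smul_def a z, show algebraMap R 𝐆 a = 0 from
      Ideal.Quotient.eq_zero_iff_mem.2 (Ideal.mem_map_of_mem _ ha), zero_mul])

theorem proj_incl (x : 𝐌) : proj I n (incl I n x) = x := by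
  obtain ⟨x, rfl⟩ := Submodule.Quotient.mk_surjective _ x
  show Submodule.Quotient.mk _ = Submodule.Quotient.mk x
  congr 1
  refine Subtype.ext ?_
  show (monomial n (x : R)).coeff n = (x : R)
  rw [Polynomial.coeff_monomial, if_pos rfl]

theorem main {R : Type u} [CommRing R] [IsDomain R] [IsLocalRing R] [IsNoetherianRing R]
    (huc : CAlg.IsUniversallyCatenary R) (I : Ideal R) (r : ℕ)
    (hS : LocCoh.HasSk r ((reesAlgebra I) ⧸ I.map (algebraMap R (reesAlgebra I)))
      ((reesAlgebra I) ⧸ I.map (algebraMap R (reesAlgebra I))))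
    (n : ℕ) (p : Ideal R) [p.IsPrime] (hp : I ≤ p) (d : ℕ) (hdr : d ≤ r)
    (hd : (d : WithBot ℕ∞) + ringKrullDim ((reesAlgebra I) ⧸
        (IsLocalRing.maximalIdeal R).map (algebraMap R (reesAlgebra I))) ≤
      (((p.map (Ideal.Quotient.mk I)).height : ℕ∞) : WithBot ℕ∞) + ((I.height : ℕ∞) : WithBot ℕ∞)) :
    (d : ℕ∞) ≤ LocCoh.depth (Localization.AtPrime p)
      (LocalizedModule p.primeCompl (↥(I ^ n) ⧸ (I • (⊤ : Submodule R ↥(I ^ n))))) := by
  refine le_depth_retract r hS p d hdr (fun q _ hq => ?_) _ (incl I n) (proj I n) (proj_incl I n)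
  have h1 := height_gr I huc q
  rw [hq] at h1
  have h2 : (p.map (Ideal.Quotient.mk I)).height + I.height ≤ p.height := height_quot_add_le I p hp
  set ℓ := ringKrullDim ((reesAlgebra I) ⧸ (IsLocalRing.maximalIdeal R).map (algebraMap R (reesAlgebra I)))
  obtain ⟨a, ha⟩ := ENat.ne_top_iff_exists.1 (Ideal.height_ne_top (I := p) (Ideal.IsPrime.ne_top inferInstance))
  have h3 : (d : WithBot ℕ∞) + ℓ ≤ ((q.height : ℕ∞) : WithBot ℕ∞) + ℓ :=
    hd.trans ((by exact_mod_cast h2 : _ ≤ ((p.height : ℕ∞) : WithBot ℕ∞)).trans h1)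
  rw [← ha] at h1 h2
  have hd' : (d : WithBot ℕ∞) + ℓ ≤ ((a : ℕ∞) : WithBot ℕ∞) := hd.trans (by exact_mod_cast h2)
  revert h1 h3 hd'
  cases ℓ using WithBot.recBotCoe with
  | bot => intro h1 _ _; simp at h1
  | coe l =>
    intro _ h3 hd'
    rw [show ((d : ℕ) : WithBot ℕ∞) = ((d : ℕ∞) : WithBot ℕ∞) from rfl, ← WithBot.coe_add, WithBot.coe_le_coe] at hd'
    have hl : l ≠ ⊤ := fun h => by simp [h] at hd'
    rw [show ((d : ℕ) : WithBot ℕ∞) = ((d : ℕ∞) : WithBot ℕ∞) from rfl, ← WithBot.coe_add, ← WithBot.coe_add,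
      WithBot.coe_le_coe] at h3
    exact (ENat.add_le_add_iff_right hl).1 h3

end Groth.Agent.GrLib8.ConormalDepth
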