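import Groth.Agent.DimFormula.Basic
import Groth.Agent.DimFormula.Catenary
import Groth.Prelude.Def_Rees
import Mathlib.RingTheory.GradedAlgebra.Radical
import Mathlib.RingTheory.Ideal.GoingDown
import Mathlib.RingTheory.ReesAlgebra

/-!
# Heights of primes of the associated graded ring of an ideal in a universally catenary local domain
-/

set_option autoImplicit false
set_option linter.unusedSectionVars false
set_option linter.style.haveILetI false
set_option synthInstance.maxHeartbeats 200000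
set_option maxHeartbeats 800000
set_option backward.isDefEq.respectTransparency false
set_option backward.isDefEq.respectTransparency.types false

universe u

open Polynomial Order

namespace Groth.Agent.GrLib8.ConormalDepth

/-- Heights add up in a catenary Noetherian domain. -/
theorem height_add_quot {C : Type u} [CommRing C] [IsDomain C] [IsNoetherianRing C] (hC : CAlg.IsCatenary C)
    (P Q : Ideal C) [P.IsPrime] [Q.IsPrime] (h : P ≤ Q) :
    P.height + (Q.map (Ideal.Quotient.mk P)).height = Q.height := by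
  let π := Ideal.Quotient.mk P
  have hπ : Function.Surjective π := Ideal.Quotient.mk_surjective
  haveI : (Q.map π).IsPrime := Ideal.map_isPrime_of_surjective hπ (by rw [Ideal.mk_ker]; exact h)
  have hc : (Q.map π).comap π = Q := by
    rw [Ideal.comap_map_of_surjective' _ hπ, Ideal.mk_ker, sup_eq_left.2 h]
  let p₀ : PrimeSpectrum C := ⟨P, ‹_›⟩
  let Q' : PrimeSpectrum (C ⧸ P) := ⟨Q.map π, ‹_›⟩
  have hle : p₀ ≤ PrimeSpectrum.comap π Q' := (show P ≤ (Q.map π).comap π from h.trans_eq hc.symm)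
  have h1 := DimFormula.height_Ici_comap π hπ p₀ (Ideal.mk_ker) Q' hle
  obtain ⟨n, hn⟩ := ENat.ne_top_iff_exists.1 (DimFormula.height_ne_top (PrimeSpectrum.comap π Q'))
  have hbot : ∀ a : PrimeSpectrum C, height a = 0 → a = ⟨⊥, Ideal.isPrime_bot⟩ := fun a ha =>
    le_antisymm (height_eq_zero.1 ha (show ⊥ ≤ a.asIdeal from bot_le)) (show ⊥ ≤ a.asIdeal from bot_le)
  have h2 := DimFormula.height_add_height_eq hC.2 (fun a b ha hb => by rw [hbot a ha, hbot b hb]) hle hn.symm
  rw [h1, ← PrimeSpectrum.height_eq_orderHeight, ← PrimeSpectrum.height_eq_orderHeight,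
    ← PrimeSpectrum.height_eq_orderHeight, PrimeSpectrum.comap_asIdeal] at h2
  change P.height + (Q.map π).height = ((Q.map π).comap π).height at h2
  rwa [hc] at h2

theorem height_head_add_length_le {α : Type*} [Preorder α] (l : LTSeries α) :
    height l.head + (l.length : ℕ∞) ≤ height l.last := by
  suffices ∀ i : Fin (l.length + 1), height l.head + ((i : ℕ) : ℕ∞) ≤ height (l i) by
    have := this (Fin.last _)
    rwa [Fin.val_last] at this
  intro i
  induction i using Fin.induction with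
  | zero => simp [RelSeries.head]
  | succ i ih =>
    rw [Fin.val_succ, Nat.cast_add, Nat.cast_one, ← add_assoc]
    exact (add_le_add ih le_rfl).trans (height_add_one_le (l.step i))

/-- Heights in a quotient. -/
theorem height_quot_add_le {C : Type u} [CommRing C] (J p : Ideal C) [p.IsPrime] (hp : J ≤ p) :
    (p.map (Ideal.Quotient.mk J)).height + J.height ≤ p.height := by
  let π := Ideal.Quotient.mk J
  have hπ : Function.Surjective π := Ideal.Quotient.mk_surjective
  haveI : (p.map π).IsPrime := Ideal.map_isPrime_of_surjective hπ (by rw [Ideal.mk_ker]; exact hp)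
  let q : PrimeSpectrum (C ⧸ J) := ⟨p.map π, ‹_›⟩
  rw [show (p.map π).height = height q from PrimeSpectrum.height_eq_orderHeight q,
    height_eq_iSup_last_eq (a := q), iSup_subtype']
  haveI : Nonempty {l : LTSeries (PrimeSpectrum (C ⧸ J)) // l.last = q} := ⟨⟨RelSeries.singleton _ _, rfl⟩⟩
  rw [ENat.iSup_add]
  refine iSup_le fun l => ?_
  let l' : LTSeries (PrimeSpectrum C) :=
    l.1.map (PrimeSpectrum.comap π) (RingHom.strictMono_comap_of_surjective hπ)
  have hh : J.height ≤ height l'.head := by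
    rw [← PrimeSpectrum.height_eq_orderHeight]
    refine Ideal.height_mono fun x hx => ?_
    show π x ∈ l.1.head.asIdeal
    rw [Ideal.Quotient.eq_zero_iff_mem.2 hx]
    exact zero_mem _
  have hl : height l'.last ≤ p.height := by
    rw [← PrimeSpectrum.height_eq_orderHeight]
    refine Ideal.height_mono ?_
    show (l.1.last).asIdeal.comap π ≤ p
    rw [l.2]
    show (p.map π).comap π ≤ p
    rw [Ideal.comap_map_of_surjective' _ hπ, Ideal.mk_ker, sup_eq_left.2 hp]
  calc ((l.1.length : ℕ) : ℕ∞) + J.height ≤ (l'.length : ℕ∞) + height l'.head := by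
        gcongr
        exact le_of_eq rfl
    _ ≤ height l'.last := by
        rw [add_comm]
        exact height_head_add_length_le l'
    _ ≤ p.height := hl

variable {R : Type u} [CommRing R] [IsDomain R] [IsLocalRing R] [IsNoetherianRing R] (I : Ideal R)

local notation "𝔪" => IsLocalRing.maximalIdeal R

instance faithfulSMul_rees : FaithfulSMul R (reesAlgebra I) :=
  (faithfulSMul_iff_algebraMap_injective R (reesAlgebra I)).2 fun a b h =>
    Polynomial.C_injective (congrArg Subtype.val h :)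

/-- The semiring structure of a quotient of the Rees algebra, through its commutative ring structure. -/
@[local instance 10000, instance_reducible]
noncomputable def quotSemiring (J : Ideal (reesAlgebra I)) : Semiring ((reesAlgebra I) ⧸ J) :=
  (inferInstance : CommRing ((reesAlgebra I) ⧸ J)).toCommSemiring.toSemiring

/-- The fibre dimension of the generic point. -/
noncomputable def eGen : ℕ := DimFormula.fd R (⊥ : Ideal (reesAlgebra I))

/-- The dimension formula for the Rees algebra. -/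
theorem formula (huc : CAlg.IsUniversallyCatenary R) (Q : Ideal (reesAlgebra I)) [Q.IsPrime] :
    Q.height + (DimFormula.fd R Q : ℕ∞) = (Q.under R).height + (eGen I : ℕ∞) := by
  have h := (DimFormula.dimension_formula R (⟨Q, ‹_›⟩ : PrimeSpectrum (reesAlgebra I))).2
    (DimFormula.isUniversallyCatenary_localization huc (Q.under R).primeCompl _)
  rw [← PrimeSpectrum.height_eq_orderHeight, ← PrimeSpectrum.height_eq_orderHeight] at h
  exact h

theorem one_le_eGen (hI : I ≠ ⊥) : 1 ≤ eGen I := by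
  obtain ⟨a, ha, ha0⟩ := Submodule.exists_mem_ne_zero_of_ne_bot hI
  let t : reesAlgebra I := ⟨monomial 1 a, reesAlgebra.monomial_mem.2 (by rwa [pow_one])⟩
  rw [eGen, DimFormula.le_fd_iff]
  refine ⟨fun _ => t, fun G hG => ?_⟩
  rw [Ideal.mem_bot] at hG
  have h1 : Polynomial.aeval (monomial 1 a : R[X]) (MvPolynomial.uniqueAlgEquiv R (Fin 1) G) = 0 := by
    have h2 : ((Polynomial.aeval (monomial 1 a : R[X])).comp (MvPolynomial.uniqueAlgEquiv R (Fin 1)).toAlgHom) =
        ((reesAlgebra I).val.comp (MvPolynomial.aeval fun _ => t)) := by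
      refine MvPolynomial.algHom_ext fun i => ?_
      simp [MvPolynomial.uniqueAlgEquiv]
      rfl
    have h3 := DFunLike.congr_fun h2 G
    simp only [AlgHom.comp_apply, hG, map_zero] at h3
    exact h3
  have h4 : (MvPolynomial.uniqueAlgEquiv R (Fin 1) G).comp (monomial 1 a) = 0 := by
    rwa [Polynomial.comp_eq_aeval]
  rcases Polynomial.comp_eq_zero_iff.1 h4 with h5 | ⟨-, h5⟩
  · rw [(MvPolynomial.uniqueAlgEquiv R (Fin 1)).injective (h5.trans (map_zero _).symm)]
    exact zero_mem _
  · exact absurd (congrArg (fun q : R[X] => q.coeff 1) h5) (by simpa [Polynomial.coeff_C] using ha0)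

/-- The augmentation to the residue field. -/
noncomputable def aug : reesAlgebra I →+* IsLocalRing.ResidueField R :=
  ((IsLocalRing.residue R).comp (Polynomial.constantCoeff (R := R))).comp (reesAlgebra I).val.toRingHom

theorem aug_surjective : Function.Surjective (aug I) := fun x => by
  obtain ⟨c, rfl⟩ := IsLocalRing.residue_surjective x
  exact ⟨algebraMap R (reesAlgebra I) c, congrArg (IsLocalRing.residue R) (Polynomial.coeff_C_zero)⟩

theorem mem_ker_aug (f : reesAlgebra I) : f ∈ RingHom.ker (aug I) ↔ (f : R[X]).coeff 0 ∈ 𝔪 :=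
  RingHom.mem_ker.trans (IsLocalRing.residue_eq_zero_iff _)

instance ker_aug_isMaximal : (RingHom.ker (aug I)).IsMaximal :=
  RingHom.ker_isMaximal_of_surjective _ (aug_surjective I)

theorem under_ker_aug : (RingHom.ker (aug I)).under R = 𝔪 := by
  ext c
  rw [Ideal.under_def, Ideal.mem_comap, mem_ker_aug]
  show (Polynomial.C c).coeff 0 ∈ _ ↔ _
  rw [Polynomial.coeff_C_zero]

theorem fd_ker_aug : DimFormula.fd R (RingHom.ker (aug I)) = 0 := by
  by_contra h
  obtain ⟨t, ht⟩ := (DimFormula.le_fd_iff R (RingHom.ker (aug I)) 1).1 (Nat.one_le_iff_ne_zero.2 h)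
  let c := ((t 0 : reesAlgebra I) : R[X]).coeff 0
  have h1 := ht (MvPolynomial.X 0 - MvPolynomial.C c) (by
    rw [map_sub, MvPolynomial.aeval_X, MvPolynomial.aeval_C, mem_ker_aug]
    show (((t 0 : reesAlgebra I) : R[X]) - Polynomial.C c).coeff 0 ∈ _
    rw [Polynomial.coeff_sub, Polynomial.coeff_C_zero, sub_self]
    exact zero_mem _)
  rw [under_ker_aug, MvPolynomial.mem_map_C_iff] at h1
  have h2 := h1 (Finsupp.single 0 1)
  classical
  have hne : (0 : Fin 1 →₀ ℕ) ≠ Finsupp.single 0 1 := fun h => by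
    simpa using DFunLike.congr_fun h 0
  simp only [MvPolynomial.coeff_sub, MvPolynomial.coeff_X, MvPolynomial.coeff_C, hne, if_false, if_true, sub_zero] at h2
  exact (IsLocalRing.maximalIdeal.isMaximal R).ne_top ((Ideal.eq_top_iff_one _).2 h2)

theorem fd_anti {P Q : Ideal (reesAlgebra I)} [P.IsPrime] [Q.IsPrime] (h : P ≤ Q) (hu : P.under R = Q.under R) :
    DimFormula.fd R Q ≤ DimFormula.fd R P := by
  obtain ⟨t, ht⟩ := (DimFormula.le_fd_iff R Q _).1 le_rfl
  rw [DimFormula.le_fd_iff]
  exact ⟨t, fun G hG => by rw [hu]; exact ht G (h hG)⟩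

/-- The graded core of a prime. -/
noncomputable def core (Q : Ideal (reesAlgebra I)) : Ideal (reesAlgebra I) :=
  (Q.homogeneousCore (Rees.deg (reesAlgebra I))).toIdeal

instance core_isPrime (Q : Ideal (reesAlgebra I)) [Q.IsPrime] : (core I Q).IsPrime :=
  Ideal.IsPrime.homogeneousCore (𝒜 := Rees.deg (reesAlgebra I)) ‹Q.IsPrime›

theorem core_le (Q : Ideal (reesAlgebra I)) : core I Q ≤ Q := Ideal.toIdeal_homogeneousCore_le _ Q

theorem under_core (Q : Ideal (reesAlgebra I)) : (core I Q).under R = Q.under R := by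
  refine le_antisymm (Ideal.comap_mono (core_le I Q)) fun c hc => ?_
  refine Ideal.mem_homogeneousCore_of_homogeneous_of_mem ⟨0, (Rees.mem_deg_iff _ _ _).2 fun m hm => ?_⟩ hc
  exact Polynomial.coeff_C_of_ne_zero hm

theorem core_le_ker_aug (Q : Ideal (reesAlgebra I)) [Q.IsPrime] : core I Q ≤ RingHom.ker (aug I) := by
  refine Ideal.span_le.2 ?_
  rintro _ ⟨⟨f, i, hi⟩, hf, rfl⟩
  rw [SetLike.mem_coe, mem_ker_aug]
  rcases i with _ | i
  · have h1 : f = algebraMap R (reesAlgebra I) ((f : R[X]).coeff 0) := Subtype.ext (Polynomial.ext fun m => by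
      rcases m with _ | m
      · exact Polynomial.coeff_C_zero.symm
      · exact ((Rees.mem_deg_iff _ _ _).1 hi (m + 1) (by omega)).trans (Polynomial.coeff_C_succ).symm)
    refine IsLocalRing.le_maximalIdeal (Ideal.IsPrime.ne_top (inferInstance : (Q.under R).IsPrime)) ?_
    show algebraMap R (reesAlgebra I) ((f : R[X]).coeff 0) ∈ Q
    rw [← h1]
    exact hf
  · show ((f : reesAlgebra I) : R[X]).coeff 0 ∈ _
    rw [(Rees.mem_deg_iff _ _ _).1 hi 0 (by omega)]
    exact zero_mem _

theorem height_quot_le (P : Ideal (reesAlgebra I)) [P.IsPrime] (hP : P ≤ RingHom.ker (aug I)) :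
    (((RingHom.ker (aug I)).map (Ideal.Quotient.mk P)).height : WithBot ℕ∞) ≤
      (((IsLocalRing.maximalIdeal R).map (Ideal.Quotient.mk (P.under R))).height : WithBot ℕ∞) +
        ringKrullDim ((reesAlgebra I) ⧸ (𝔪).map (algebraMap R (reesAlgebra I))) := by
  let p := P.under R
  letI : Algebra (R ⧸ p) ((reesAlgebra I) ⧸ P) := Ideal.Quotient.algebraQuotientOfLEComap le_rfl
  let mR := (𝔪).map (Ideal.Quotient.mk p)
  let MD := (RingHom.ker (aug I)).map (Ideal.Quotient.mk P)
  have hp : p ≤ 𝔪 := IsLocalRing.le_maximalIdeal (Ideal.IsPrime.ne_top inferInstance)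
  haveI hmR : mR.IsMaximal := Ideal.IsMaximal.map_of_surjective_of_ker_le Ideal.Quotient.mk_surjective
    (by rw [Ideal.mk_ker]; exact hp)
  haveI : MD.IsPrime := Ideal.map_isPrime_of_surjective Ideal.Quotient.mk_surjective (by rw [Ideal.mk_ker]; exact hP)
  haveI : MD.LiesOver mR := by
    refine ⟨hmR.eq_of_le (Ideal.IsPrime.ne_top inferInstance) ?_⟩
    refine Ideal.map_le_iff_le_comap.2 fun c hc => ?_
    show Ideal.Quotient.mk P (algebraMap R (reesAlgebra I) c) ∈ MD
    exact Ideal.mem_map_of_mem _ ((mem_ker_aug I _).2 (by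
      show (Polynomial.C c).coeff 0 ∈ _; rwa [Polynomial.coeff_C_zero]))
  have h1 := WithBot.coe_le_coe.2 (Ideal.height_le_height_add_of_liesOver mR MD)
  refine h1.trans ?_
  rw [WithBot.coe_add]
  refine add_le_add le_rfl ?_
  let J := mR.map (algebraMap (R ⧸ p) ((reesAlgebra I) ⧸ P))
  let ψ : (reesAlgebra I) →+* ((reesAlgebra I) ⧸ P) ⧸ J := (Ideal.Quotient.mk J).comp (Ideal.Quotient.mk P)
  have hψ : Function.Surjective ψ := Ideal.Quotient.mk_surjective.comp Ideal.Quotient.mk_surjective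
  have hker : (𝔪).map (algebraMap R (reesAlgebra I)) ≤ RingHom.ker ψ := by
    refine Ideal.map_le_iff_le_comap.2 fun c hc => ?_
    show Ideal.Quotient.mk J (Ideal.Quotient.mk P (algebraMap R (reesAlgebra I) c)) = 0
    exact Ideal.Quotient.eq_zero_iff_mem.2 (Ideal.mem_map_of_mem _ (Ideal.mem_map_of_mem _ hc))
  have hMJ : (MD.map (Ideal.Quotient.mk J)) ≠ ⊤ := by
    haveI : (MD.map (Ideal.Quotient.mk J)).IsPrime := Ideal.map_isPrime_of_surjective Ideal.Quotient.mk_surjective
      (by rw [Ideal.mk_ker]; exact Ideal.map_le_iff_le_comap.2 (Ideal.LiesOver.over (P := MD) (p := mR)).le)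
    exact Ideal.IsPrime.ne_top inferInstance
  exact (Ideal.height_le_ringKrullDim_of_ne_top hMJ).trans
    (ringKrullDim_le_of_surjective (Ideal.Quotient.lift _ ψ hker)
      (Ideal.Quotient.lift_surjective_of_surjective _ hker hψ))

/-- The fibre dimension over any prime is at most the analytic spread. -/
theorem fd_le (huc : CAlg.IsUniversallyCatenary R) (Q : Ideal (reesAlgebra I)) [Q.IsPrime] :
    (DimFormula.fd R Q : WithBot ℕ∞) ≤
      ringKrullDim ((reesAlgebra I) ⧸ (𝔪).map (algebraMap R (reesAlgebra I))) := by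
  let Qs := core I Q
  let M := RingHom.ker (aug I)
  have hle : Qs ≤ M := core_le_ker_aug I Q
  have hcatR : CAlg.IsCatenary R := huc.2 R inferInstance
  have hcatB : CAlg.IsCatenary (reesAlgebra I) := huc.2 (reesAlgebra I) inferInstance
  have hA := height_add_quot hcatB Qs M hle
  have hB := height_add_quot hcatR (Qs.under R) 𝔪 (IsLocalRing.le_maximalIdeal (Ideal.IsPrime.ne_top inferInstance))
  have hC := formula I huc Qs
  have hD := formula I huc M
  rw [fd_ker_aug, Nat.cast_zero, add_zero, under_ker_aug] at hD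
  have hE := height_quot_le I Qs hle
  have hF : DimFormula.fd R Q ≤ DimFormula.fd R Qs := fd_anti I (core_le I Q) (under_core I Q)
  refine le_trans (b := (DimFormula.fd R Qs : WithBot ℕ∞)) (by exact_mod_cast hF) ?_
  set ℓ := ringKrullDim ((reesAlgebra I) ⧸ (𝔪).map (algebraMap R (reesAlgebra I))) with hℓ
  by_cases htop : ℓ = ⊤
  · rw [htop]; exact le_top
  obtain ⟨l, hl⟩ : ∃ l : ℕ, ℓ = (l : WithBot ℕ∞) := by
    obtain ⟨x, hx⟩ : ∃ x : ℕ∞, ℓ = (x : WithBot ℕ∞) := by
      haveI : Nontrivial ((reesAlgebra I) ⧸ (𝔪).map (algebraMap R (reesAlgebra I))) :=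
        Ideal.Quotient.nontrivial_iff.2 (ne_top_of_le_ne_top (ker_aug_isMaximal I).ne_top
          (Ideal.map_le_iff_le_comap.2 (under_ker_aug I).ge))
      obtain ⟨x, hx⟩ := WithBot.ne_bot_iff_exists.1 (ne_bot_of_le_ne_bot WithBot.zero_ne_bot
        (ringKrullDim_nonneg_of_nontrivial : (0 : WithBot ℕ∞) ≤ ℓ))
      exact ⟨x, hx.symm⟩
    obtain ⟨l, rfl⟩ := ENat.ne_top_iff_exists.1 (fun hx' : x = ⊤ => htop (by rw [hx, hx']; rfl))
    exact ⟨l, hx⟩
  rw [hl] at hE ⊢
  obtain ⟨a, ha⟩ := ENat.ne_top_iff_exists.1 (Ideal.height_ne_top (I := Qs) (Ideal.IsPrime.ne_top inferInstance))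
  obtain ⟨b, hb⟩ := ENat.ne_top_iff_exists.1 (Ideal.height_ne_top (I := Qs.under R) (Ideal.IsPrime.ne_top inferInstance))
  obtain ⟨m, hm⟩ := ENat.ne_top_iff_exists.1 (Ideal.height_ne_top (I := (𝔪)) (Ideal.IsPrime.ne_top inferInstance))
  rw [← ha] at hA hC
  rw [← hb] at hB hC
  rw [← hm] at hB hD
  rw [hD] at hA
  rw [show ((l : ℕ) : WithBot ℕ∞) = (((l : ℕ∞)) : WithBot ℕ∞) from rfl, ← WithBot.coe_add, WithBot.coe_le_coe] at hE
  obtain ⟨y, hy⟩ := ENat.ne_top_iff_exists.1 (ne_top_of_le_ne_top (ENat.coe_ne_top m) (le_add_self.trans hB.le))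
  rw [← hy] at hB hE
  obtain ⟨x, hx⟩ := ENat.ne_top_iff_exists.1 (ne_top_of_le_ne_top (ENat.coe_ne_top (y + l)) (by exact_mod_cast hE))
  rw [← hx] at hA hE
  norm_cast at hA hB hC hE ⊢
  omega

theorem monomial_mem_span_pow : ∀ (N : ℕ), ∀ x ∈ I ^ N,
    ∃ f ∈ Ideal.span {f : reesAlgebra I | ∃ a ∈ I, (f : R[X]) = monomial 1 a} ^ N, (f : R[X]) = monomial N x := by
  intro N
  induction N with
  | zero =>
    intro x _
    exact ⟨algebraMap R (reesAlgebra I) x, by rw [pow_zero, Ideal.one_eq_top]; exact Submodule.mem_top, rfl⟩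
  | succ N ih =>
    intro x hx
    rw [pow_succ] at hx
    refine Submodule.mul_induction_on hx (fun y hy a ha => ?_) (fun y z ⟨f, hf, hfe⟩ ⟨g, hg, hge⟩ => ?_)
    · obtain ⟨f, hf, hfe⟩ := ih y hy
      refine ⟨f * ⟨monomial 1 a, reesAlgebra.monomial_mem.2 (by rwa [pow_one])⟩, ?_, ?_⟩
      · rw [pow_succ]; exact Ideal.mul_mem_mul hf (Ideal.subset_span ⟨a, ha, rfl⟩)
      · show (f : R[X]) * monomial 1 a = _
        rw [hfe, monomial_mul_monomial]
    · refine ⟨f + g, add_mem hf hg, ?_⟩
      show (f : R[X]) + (g : R[X]) = _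
      rw [hfe, hge, map_add]

theorem mem_of_coeff_zero_mem (P : Ideal (reesAlgebra I))
    (hKP : Ideal.span {f : reesAlgebra I | ∃ a ∈ I, (f : R[X]) = monomial 1 a} ≤ P) (s : reesAlgebra I)
    (h : (s : R[X]).coeff 0 ∈ P.under R) : s ∈ P := by
  classical
  have hterm : ∀ i, ∃ f ∈ P, ((f : reesAlgebra I) : R[X]) = monomial i ((s : R[X]).coeff i) := fun i => by
    rcases i with _ | i
    · exact ⟨algebraMap R (reesAlgebra I) ((s : R[X]).coeff 0), h, rfl⟩
    · obtain ⟨f, hf, hfe⟩ := monomial_mem_span_pow I (i + 1) _ (s.2 (i + 1))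
      exact ⟨f, hKP (Ideal.pow_le_self (Nat.succ_ne_zero i) hf), hfe⟩
  choose f hf hfe using hterm
  rw [show s = ∑ i ∈ Finset.range ((s : R[X]).natDegree + 1), f i from Subtype.ext (by
    rw [AddSubmonoidClass.coe_finsetSum]; simp only [hfe]; exact Polynomial.as_sum_range _)]
  exact Ideal.sum_mem _ fun i _ => hf i

theorem exists_mul_mem {C : Type u} [CommRing C] [IsNoetherianRing C] {J P : Ideal C}
    (hP : P ∈ J.minimalPrimes) (K : Ideal C) (hK : K ≤ P) :
    ∃ (N : ℕ) (s : C), s ∉ P ∧ ∀ f ∈ K ^ N, s * f ∈ J := by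
  classical
  haveI : P.IsPrime := hP.1.1
  have h1 : ∀ x ∈ P, ∃ s, s ∉ P ∧ ∃ n : ℕ, s * x ^ n ∈ J := fun x hx => by
    by_contra hall
    push Not at hall
    have hdisj : Disjoint (J : Set C) ((P.primeCompl ⊔ Submonoid.powers x : Submonoid C) : Set C) := by
      refine Set.disjoint_left.2 fun y hyJ hy => ?_
      obtain ⟨s, hs, w, ⟨n, rfl⟩, rfl⟩ := Submonoid.mem_sup.1 hy
      exact hall s hs n hyJ
    obtain ⟨Q, hQ, hJQ, hQd⟩ := Ideal.exists_le_prime_disjoint J _ hdisj
    have hQP : Q ≤ P := fun y hy => by_contra fun hyP =>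
      Set.disjoint_left.1 hQd hy (Submonoid.mem_sup_left (hyP : y ∈ P.primeCompl))
    exact Set.disjoint_left.1 hQd (hP.2 ⟨hQ, hJQ⟩ hQP hx) (Submonoid.mem_sup_right (Submonoid.mem_powers x))
  obtain ⟨t, ht⟩ := IsNoetherian.noetherian K
  choose! s hs n hn using h1
  let σ := ∏ x ∈ t, s x
  have hσ : σ ∉ P := by
    show ∏ x ∈ t, s x ∈ P.primeCompl
    exact prod_mem fun x hx => hs x (hK (ht ▸ Ideal.subset_span hx))
  let T : Ideal C := J.colon ((Ideal.span {σ} : Ideal C) : Set C)
  have hT : ∀ y, y ∈ T ↔ σ * y ∈ J := fun y => by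
    show y ∈ J.colon _ ↔ _
    rw [Submodule.mem_colon]
    refine ⟨fun h => by simpa [mul_comm] using h σ (Ideal.mem_span_singleton_self σ), fun h z hz => ?_⟩
    obtain ⟨c, rfl⟩ := Ideal.mem_span_singleton'.1 hz
    rw [smul_eq_mul, show y * (c * σ) = c * (σ * y) by ring]
    exact J.mul_mem_left c h
  obtain ⟨N, hN⟩ := Ideal.exists_pow_le_of_le_radical_of_fg (I := K) (J := T)
    (ht ▸ Submodule.span_le.2 fun x hx => ⟨n x, (hT _).2 (by
      obtain ⟨c, hc⟩ := Finset.dvd_prod_of_mem s hx
      show (∏ x ∈ t, s x) * x ^ n x ∈ J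
      rw [hc, show s x * c * x ^ n x = c * (s x * x ^ n x) by ring]
      exact J.mul_mem_left c (hn x (hK (ht ▸ Ideal.subset_span hx))))⟩) (IsNoetherian.noetherian K)
  exact ⟨N, σ, hσ, fun f hf => (hT f).1 (hN hf)⟩

/-- A minimal prime of `I·R[It]` misses some degree-one generator, unless `I = 0`. -/
theorem eq_bot_of_gens_mem {P : Ideal (reesAlgebra I)}
    (hP : P ∈ (I.map (algebraMap R (reesAlgebra I))).minimalPrimes)
    (hall : ∀ a (ha : a ∈ I), (⟨monomial 1 a, reesAlgebra.monomial_mem.2 (by rwa [pow_one])⟩ : reesAlgebra I) ∈ P) :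
    I = ⊥ := by
  haveI : P.IsPrime := hP.1.1
  let J := I.map (algebraMap R (reesAlgebra I))
  let K := Ideal.span {f : reesAlgebra I | ∃ a ∈ I, (f : R[X]) = monomial 1 a}
  have hKP : K ≤ P := Ideal.span_le.2 fun f ⟨a, ha, hf⟩ => by
    rw [show f = ⟨monomial 1 a, reesAlgebra.monomial_mem.2 (by rwa [pow_one])⟩ from Subtype.ext hf]
    exact hall a ha
  have hJ : ∀ f ∈ J, ∀ i, ((f : reesAlgebra I) : R[X]).coeff i ∈ I ^ (i + 1) := by
    intro f hf
    change f ∈ Ideal.span _ at hf
    induction hf using Submodule.span_induction with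
    | mem x hx =>
      obtain ⟨c, hc, rfl⟩ := hx
      intro i
      show (Polynomial.C c).coeff i ∈ _
      rcases i with _ | i
      · rw [Polynomial.coeff_C_zero, zero_add, pow_one]; exact hc
      · rw [Polynomial.coeff_C_succ]; exact zero_mem _
    | zero => exact fun i => by simp
    | add x y _ _ hx hy =>
        intro i
        show ((x : R[X]) + (y : R[X])).coeff i ∈ _
        rw [Polynomial.coeff_add]; exact add_mem (hx i) (hy i)
    | smul c x _ hx =>
        intro i
        show ((c : R[X]) * (x : R[X])).coeff i ∈ _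
        rw [Polynomial.coeff_mul]
        refine Ideal.sum_mem _ fun jk hjk => ?_
        rw [Finset.mem_antidiagonal] at hjk
        have h := Ideal.mul_mem_mul (c.2 jk.1) (hx jk.2)
        rwa [← pow_add, show jk.1 + (jk.2 + 1) = i + 1 by omega] at h
  obtain ⟨N, s, hs, hsK⟩ : ∃ (N : ℕ) (s : reesAlgebra I), s ∉ P ∧ ∀ f ∈ K ^ N, s * f ∈ J := exists_mul_mem hP K hKP
  have hs0 : (s : R[X]).coeff 0 ∉ P.under R := fun h => hs (mem_of_coeff_zero_mem I P hKP s h)
  by_contra hI
  let f : Module.End R ↥(I ^ N) := algebraMap R _ ((s : R[X]).coeff 0)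
  have hf : LinearMap.range f ≤ I • ⊤ := by
    rintro _ ⟨x, rfl⟩
    rw [← Submodule.comap_map_eq_of_injective (I ^ N).injective_subtype (I • ⊤), Submodule.mem_comap,
      Submodule.map_smul'', Submodule.map_top, Submodule.range_subtype]
    show (s : R[X]).coeff 0 * (x : R) ∈ I * I ^ N
    obtain ⟨g, hg, hge⟩ := monomial_mem_span_pow I N x.1 x.2
    have h := hJ _ (hsK g hg) N
    change ((s : R[X]) * (g : R[X])).coeff N ∈ _ at h
    rw [hge] at h
    have hc := Polynomial.coeff_mul_monomial (s : R[X]) N 0 (x : R)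
    rw [zero_add] at hc
    rw [hc] at h
    rwa [pow_succ'] at h
  obtain ⟨q, hq, -, hqc, hq0⟩ := LinearMap.exists_monic_and_natDegree_eq_and_coeff_mem_pow_and_aeval_eq_zero R f I hf
  rw [Polynomial.aeval_algebraMap_apply] at hq0
  obtain ⟨x, hx, hx0⟩ := Submodule.exists_mem_ne_zero_of_ne_bot (pow_ne_zero N hI)
  have h0 : Polynomial.aeval ((s : R[X]).coeff 0) q = 0 := by
    have := congrArg Subtype.val (DFunLike.congr_fun hq0 (⟨x, hx⟩ : ↥(I ^ N)))
    exact (mul_eq_zero.1 this).resolve_right hx0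
  refine hs0 (Ideal.IsPrime.mem_of_pow_mem inferInstance q.natDegree ?_)
  rw [Polynomial.coe_aeval_eq_eval, Polynomial.eval_eq_sum_range, Finset.sum_range_succ, hq.coeff_natDegree, one_mul,
    add_eq_zero_iff_neg_eq] at h0
  rw [← h0]
  refine neg_mem (Ideal.sum_mem _ fun k hk => Ideal.mul_mem_right _ _ ?_)
  rw [Finset.mem_range] at hk
  have hle : I ≤ P.under R := fun c hc => hP.1.2 (Ideal.mem_map_of_mem _ hc)
  exact hle (Ideal.pow_le_self (by omega) (hqc k))

/-- Heights in the associated graded ring. -/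
theorem height_gr (huc : CAlg.IsUniversallyCatenary R)
    (Qg : Ideal ((reesAlgebra I) ⧸ I.map (algebraMap R (reesAlgebra I)))) [Qg.IsPrime] :
    ((Qg.under R).height : WithBot ℕ∞) ≤ (Qg.height : WithBot ℕ∞) +
      ringKrullDim ((reesAlgebra I) ⧸ (𝔪).map (algebraMap R (reesAlgebra I))) := by
  let J := I.map (algebraMap R (reesAlgebra I))
  let Qb : Ideal (reesAlgebra I) := Qg.comap (Ideal.Quotient.mk J)
  have hJQ : J ≤ Qb := fun x hx => by
    show Ideal.Quotient.mk J x ∈ Qg
    rw [Ideal.Quotient.eq_zero_iff_mem.2 hx]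
    exact zero_mem _
  obtain ⟨P, hP, hPQ⟩ := Ideal.exists_minimalPrimes_le hJQ
  haveI : P.IsPrime := hP.1.1
  have hPh : P.height ≤ (eGen I : ℕ∞) := by
    by_cases hI : I = ⊥
    · have hJ : J = ⊥ := by simp [J, hI]
      have : P = ⊥ := le_bot_iff.1 (hP.2 ⟨Ideal.isPrime_bot, hJ.le⟩ bot_le)
      rw [this, Ideal.height_bot]
      exact bot_le
    refine le_trans (b := (1 : ℕ∞)) ?_ (by exact_mod_cast one_le_eGen I hI)
    -- an element `a t` outside `P`
    obtain ⟨a, ha, hat⟩ : ∃ a, ∃ ha : a ∈ I,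
        (⟨monomial 1 a, reesAlgebra.monomial_mem.2 (by rwa [pow_one])⟩ : reesAlgebra I) ∉ P := by
      by_contra hall
      push Not at hall
      exact hI (eq_bot_of_gens_mem I hP hall)
    let at' : reesAlgebra I := ⟨monomial 1 a, reesAlgebra.monomial_mem.2 (by rwa [pow_one])⟩
    have hmin : P ∈ (Ideal.span {algebraMap R (reesAlgebra I) a}).minimalPrimes := by
      refine ⟨⟨hP.1.1, (Ideal.span_singleton_le_iff_mem _).2 (hP.1.2 (Ideal.mem_map_of_mem _ ha))⟩, ?_⟩
      rintro P' ⟨hP', haP'⟩ hle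
      refine hP.2 ⟨hP', Ideal.map_le_iff_le_comap.2 fun b hb => ?_⟩ hle
      let bt : reesAlgebra I := ⟨monomial 1 b, reesAlgebra.monomial_mem.2 (by rwa [pow_one])⟩
      have he : algebraMap R (reesAlgebra I) b * at' = algebraMap R (reesAlgebra I) a * bt :=
        Subtype.ext (by
          show Polynomial.C b * monomial 1 a = Polynomial.C a * monomial 1 b
          rw [Polynomial.C_mul_monomial, Polynomial.C_mul_monomial, mul_comm])
      refine (hP'.mem_or_mem (he ▸ P'.mul_mem_right bt (haP' (Ideal.mem_span_singleton_self _)))).resolve_right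
        fun h => hat (hle h)
    exact Ideal.height_le_one_of_isPrincipal_of_mem_minimalPrimes _ P hmin
  have hQ := formula I huc Qb
  have hu : Qb.under R = Qg.under R := rfl
  rw [hu] at hQ
  have hcat : CAlg.IsCatenary (reesAlgebra I) := huc.2 (reesAlgebra I) inferInstance
  have hadd := height_add_quot hcat P Qb hPQ
  have hle : ((Qb.map (Ideal.Quotient.mk P))).height ≤ Qg.height := by
    haveI : (Qb.map (Ideal.Quotient.mk P)).IsPrime :=
      Ideal.map_isPrime_of_surjective Ideal.Quotient.mk_surjective (by rw [Ideal.mk_ker]; exact hPQ)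
    let f : (reesAlgebra I) ⧸ J →+* (reesAlgebra I) ⧸ P := Ideal.Quotient.factor hP.1.2
    have hf : Function.Surjective f := Ideal.Quotient.factor_surjective hP.1.2
    have h1 : (Qb.map (Ideal.Quotient.mk P)).comap f = Qg := by
      refine Ideal.comap_injective_of_surjective (Ideal.Quotient.mk J) Ideal.Quotient.mk_surjective ?_
      rw [Ideal.comap_comap, show f.comp (Ideal.Quotient.mk J) = Ideal.Quotient.mk P from Ideal.Quotient.factor_comp_mk hP.1.2,
        Ideal.comap_map_of_surjective' _ Ideal.Quotient.mk_surjective, Ideal.mk_ker, sup_eq_left.2 hPQ]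
    have h2 := Order.height_le_height_apply_of_strictMono (PrimeSpectrum.comap f)
      (RingHom.strictMono_comap_of_surjective hf) ⟨Qb.map (Ideal.Quotient.mk P), inferInstance⟩
    rw [← PrimeSpectrum.height_eq_orderHeight, ← PrimeSpectrum.height_eq_orderHeight, PrimeSpectrum.comap_asIdeal] at h2
    change _ ≤ ((Qb.map (Ideal.Quotient.mk P)).comap f).height at h2
    rwa [h1] at h2
  have key : (Qg.under R).height ≤ Qg.height + (DimFormula.fd R Qb : ℕ∞) := by
    refine (ENat.add_le_add_iff_right (ENat.coe_ne_top (eGen I))).1 ?_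
    calc (Qg.under R).height + (eGen I : ℕ∞)
        = Qb.height + (DimFormula.fd R Qb : ℕ∞) := hQ.symm
      _ = P.height + (Qb.map (Ideal.Quotient.mk P)).height + (DimFormula.fd R Qb : ℕ∞) := by rw [hadd]
      _ ≤ (eGen I : ℕ∞) + Qg.height + (DimFormula.fd R Qb : ℕ∞) := by gcongr
      _ = Qg.height + (DimFormula.fd R Qb : ℕ∞) + (eGen I : ℕ∞) := by ring
  refine (WithBot.coe_le_coe.2 key).trans ?_
  rw [WithBot.coe_add]
  exact add_le_add le_rfl (fd_le I huc Qb)

end Groth.Agent.GrLib8.ConormalDepth
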